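import Cfsg.Agent.Spor.ThD.VB.D0

set_option autoImplicit false
set_option maxRecDepth 100000000
set_option Elab.async false

namespace Cfsg.Agent.Spor.ThD.VB

theorem uok7 : Net.okb 10 un7 = true := by decide +kernel

theorem rel3 : U.rel 10 [15, 12, 14, 10, 11, 8, 6, 8, 10, 12, 13, 4, 6, 8, 2, 4, 2, 5, 7, 9, 11] 0 10 = true := by decide +kernel

theorem uok8 : Net.okb 10 un8 = true := by decide +kernel

theorem rel4 : U.rel 10 [17, 12, 10, 8, 6, 8, 10, 11, 13, 8, 6, 8, 10, 4, 6, 2, 3] 0 10 = true := by decide +kernel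

theorem uok9 : Net.okb 10 un9 = true := by decide +kernel

theorem rel5 : U.rel 10 [19, 11, 10, 11, 8, 6, 8, 10, 12, 4, 6, 8, 2, 4, 6, 8, 1, 9, 12] 0 10 = true := by decide +kernel

theorem uok10 : Net.okb 10 un10 = true := by decide +kernel

theorem rel6 : U.rel 10 [21, 13, 11, 10, 4, 6, 8, 2, 4, 6, 8, 10, 12, 10, 6, 8, 5, 7, 9] 0 10 = true := by decide +kernel

theorem uok11 : Net.okb 10 un11 = true := by decide +kernel

theorem rel7 : U.rel 10 [23, 11, 10, 11, 4, 6, 8, 10, 12, 6, 8, 4, 6, 8, 10, 8, 5, 7, 12, 12] 0 10 = true := by decide +kernel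

theorem uok12 : Net.okb 10 un12 = true := by decide +kernel

theorem rel8 : U.rel 10 [25, 11, 13, 10, 12, 2, 4, 6, 8, 10, 2, 4, 6, 8, 6, 4, 2, 3, 12, 9, 7, 5, 3, 1, 12, 9] 0 10 = true := by decide +kernel

theorem uok13 : Net.okb 10 un13 = true := by decide +kernel

theorem rel9 : U.rel 10 [27, 10, 8, 6, 8, 10, 4, 6, 8, 6, 8, 10, 12, 10, 12, 4, 5, 7, 5, 9, 7, 5, 3, 12, 9, 7] 0 10 = true := by decide +kernel

theorem uok14 : Net.okb 10 un14 = true := by decide +kernel

theorem rel10 : U.rel 10 [29, 12, 14, 10, 6, 8, 6, 8, 4, 6, 8, 10, 12, 8, 6, 8, 3, 5, 3, 7, 9] 0 10 = true := by decide +kernel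

theorem uok15 : Net.okb 10 un15 = true := by decide +kernel

theorem rel11 : U.rel 10 [31, 11, 13, 10, 11, 6, 8, 10, 12, 4, 6, 8, 10, 8, 6, 8, 1, 3, 5, 7, 5, 9, 12, 9, 11] 0 10 = true := by decide +kernel

theorem uok16 : Net.okb 10 un16 = true := by decide +kernel

theorem rel12 : U.rel 10 [33, 13, 6, 8, 4, 6, 8, 2, 4, 6, 8, 10, 6, 8, 6] 0 10 = true := by decide +kernel

theorem uok17 : Net.okb 10 un17 = true := by decide +kernel

theorem rel13 : U.rel 10 [35, 12, 4, 6, 8, 10, 12, 12, 2, 4, 6, 8, 10, 6, 8, 4, 2, 5, 3, 12, 9, 7, 5, 3, 7, 5, 12, 14] 0 10 = true := by decide +kernel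

theorem uok18 : Net.okb 10 un18 = true := by decide +kernel

theorem rel14 : U.rel 10 [37, 14, 2, 4, 6, 8, 10, 11, 8, 6, 8, 4, 6, 8, 10, 8, 5, 7, 5, 14, 11, 9, 7, 12] 0 10 = true := by decide +kernel

theorem uok19 : Net.okb 10 un19 = true := by decide +kernel

theorem rel15 : U.rel 10 [39, 10, 8, 6, 8, 10, 8, 6, 8, 4, 6, 8, 2, 4, 6, 8, 1] 0 10 = true := by decide +kernel

theorem uok20 : Net.okb 10 un20 = true := by decide +kernel

theorem rel16 : U.rel 10 [41, 4, 6, 8, 2, 4, 6, 8, 10, 8, 6, 8, 4, 6, 8, 4, 2, 3, 5, 7] 0 10 = true := by decide +kernel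

theorem uok21 : Net.okb 10 un21 = true := by decide +kernel

theorem rel17 : U.rel 10 [43, 6, 8, 2, 4, 6, 8, 10, 8, 6, 8, 4, 6, 8, 10, 4, 2, 3, 5] 0 10 = true := by decide +kernel

theorem uok22 : Net.okb 10 un22 = true := by decide +kernel

theorem rel18 : U.rel 10 [45, 13, 10, 4, 6, 8, 2, 4, 6, 8, 6] 0 10 = true := by decide +kernel

theorem uok23 : Net.okb 10 un23 = true := by decide +kernel

theorem rel19 : U.rel 10 [47, 12, 8, 10, 11, 14, 8, 6, 8, 10, 12, 8, 2, 4, 6, 4, 2, 3, 7, 9, 12, 9] 0 10 = true := by decide +kernel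

theorem uok24 : Net.okb 10 un24 = true := by decide +kernel

theorem rel20 : U.rel 10 [49, 11, 10, 12, 13, 8, 10, 11, 6, 8, 4, 6, 8, 10, 8, 4, 2, 3, 5, 12, 9, 7, 5, 11] 0 10 = true := by decide +kernel

theorem uok25 : Net.okb 10 un25 = true := by decide +kernel

theorem rel21 : U.rel 10 [51, 12, 8, 10, 12, 4, 6, 8, 10, 11, 6, 8, 10, 6, 8, 6, 3, 1, 5, 7, 9, 7, 5, 14, 12, 9] 0 10 = true := by decide +kernel

theorem uok26 : Net.okb 10 un26 = true := by decide +kernel

theorem rel22 : U.rel 10 [53, 13, 11, 8, 10, 4, 6, 8, 6, 8, 10, 12, 12, 4, 6, 8, 5, 9, 7, 5, 3, 12, 9, 7, 5, 3, 12] 0 10 = true := by decide +kernel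

theorem uok27 : Net.okb 10 un27 = true := by decide +kernel

theorem rel23 : U.rel 10 [55, 12, 8, 10, 11, 6, 8, 6, 8, 10, 11, 10, 8, 4, 6, 8, 3, 5, 3, 9, 7, 5, 3, 12, 12, 12, 9, 7] 0 10 = true := by decide +kernel

theorem uok28 : Net.okb 10 un28 = true := by decide +kernel

theorem rel24 : U.rel 10 [57, 12, 10, 11, 6, 8, 10, 12, 4, 6, 8, 10, 2, 4, 6, 8, 3, 5, 3, 7, 9, 7, 13, 11, 9] 0 10 = true := by decide +kernel

theorem uok29 : Net.okb 10 un29 = true := by decide +kernel

theorem rel26 : U.rel 10 [59, 15, 17, 17, 17, 15, 17, 17, 17, 15, 15, 15, 15, 17, 17, 15, 17, 17, 17, 15, 15, 15, 17, 17, 15, 17, 15, 17, 15, 17, 15] 0 10 = true := by decide +kernel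

theorem uok30 : Net.okb 10 un30 = true := by decide +kernel

theorem rel27 : U.rel 10 [61, 17, 15, 15, 15, 15, 15, 17, 15, 17, 15, 17, 17, 17, 15, 17, 17, 15] 0 10 = true := by decide +kernel

theorem gr29 : sub M28 (U.growI W25 [0, 1, 1, 0, 0, 1, 1, 0, 0, 1, 1, 0, 0, 1, 1, 0, 0, 1, 1, 0] (Nat.shiftLeft 1 1)) = true := by decide +kernel

theorem cl31 : band (U.closedW W25 M28) (sub (Nat.shiftLeft 1 1) M28) = true := by decide +kernel

theorem sz32 : sizeOk 10 M28 768 = true := by decide +kernel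

theorem fx35 : U.closedW W34 (Nat.shiftLeft 1 1) = true := by decide +kernel

theorem gr37 : sub M36 (U.growI W34 [0, 1, 1, 0, 0, 1, 1, 0, 0, 1] (Nat.shiftLeft 1 51)) = true := by decide +kernel

theorem cl39 : band (U.closedW W34 M36) (sub (Nat.shiftLeft 1 51) M36) = true := by decide +kernel

theorem sz40 : sizeOk 10 M36 48 = true := by decide +kernel

theorem uok31 : Net.okb 10 un31 = true := by decide +kernel

theorem rel44 : U.rel 10 [63, 19, 21, 19, 19, 21, 21, 19, 21, 19, 21, 21, 21, 19, 21, 21, 19] 0 10 = true := by decide +kernel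

theorem uok32 : Net.okb 10 un32 = true := by decide +kernel

theorem rel45 : U.rel 10 [65, 21, 21, 21, 21, 21, 21, 19, 21, 19, 21, 19, 19, 19, 19, 19, 19, 21, 19, 19, 19, 21, 19, 21, 19, 21, 19, 21, 21, 21, 19, 21, 19, 19] 0 10 = true := by decide +kernel

theorem gr47 : sub M46 (U.growI W43 [0, 1, 1, 0, 0, 1, 1, 0, 0, 1, 1, 0, 0, 1, 1, 0, 0, 1, 1, 0, 0, 1, 1] (Nat.shiftLeft 1 1)) = true := by decide +kernel

theorem cl49 : band (U.closedW W43 M46) (sub (Nat.shiftLeft 1 1) M46) = true := by decide +kernel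

theorem sz50 : sizeOk 10 M46 768 = true := by decide +kernel

theorem fx53 : U.closedW W52 (Nat.shiftLeft 1 1) = true := by decide +kernel

theorem gr55 : sub M54 (U.growI W52 [0, 1, 1, 0, 1, 1, 0, 1, 1, 1] (Nat.shiftLeft 1 51)) = true := by decide +kernel

theorem cl57 : band (U.closedW W52 M54) (sub (Nat.shiftLeft 1 51) M54) = true := by decide +kernel

theorem sz58 : sizeOk 10 M54 48 = true := by decide +kernel

theorem uok33 : Net.okb 10 un33 = true := by decide +kernel

theorem rel62 : U.rel 10 [67, 23, 23, 23, 25, 23, 23, 23, 25, 25, 23, 25, 25, 25] 0 10 = true := by decide +kernel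

theorem uok34 : Net.okb 10 un34 = true := by decide +kernel

theorem rel63 : U.rel 10 [69, 23, 25, 23, 25, 25, 23, 25, 25, 25, 25, 23] 0 10 = true := by decide +kernel

theorem gr65 : sub M64 (U.growI W61 [0, 1, 1, 0, 0, 1, 1, 0, 0, 1, 1, 0, 0, 1, 1, 0, 0] (Nat.shiftLeft 1 1)) = true := by decide +kernel

theorem cl67 : band (U.closedW W61 M64) (sub (Nat.shiftLeft 1 1) M64) = true := by decide +kernel

theorem sz68 : sizeOk 10 M64 512 = true := by decide +kernel

theorem fx71 : U.closedW W70 (Nat.shiftLeft 1 1) = true := by decide +kernel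

theorem gr73 : sub M72 (U.growI W70 [0, 1, 1, 0, 0, 1, 1] (Nat.shiftLeft 1 15)) = true := by decide +kernel

theorem cl75 : band (U.closedW W70 M72) (sub (Nat.shiftLeft 1 15) M72) = true := by decide +kernel

theorem sz76 : sizeOk 10 M72 27 = true := by decide +kernel

theorem gr81 : sub M80 (U.growI W79 [0, 1, 1, 0, 0, 1, 1, 0, 0, 1, 1, 0, 0, 1, 1, 0, 0, 0] (Nat.shiftLeft 1 5)) = true := by decide +kernel

theorem cl83 : band (U.closedW W79 M80) (sub (Nat.shiftLeft 1 5) M80) = true := by decide +kernel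

theorem sz84 : sizeOk 10 M80 288 = true := by decide +kernel

theorem uok35 : Net.okb 10 un35 = true := by decide +kernel

theorem rel87 : U.rel 10 [71, 33, 31, 31, 33, 31, 33, 31, 31, 31, 33, 33, 33, 33, 33, 31, 31, 33, 33, 33, 33, 31] 0 10 = true := by decide +kernel

theorem gr89 : sub M88 (U.growI W86 [0, 1, 1, 0, 0, 1, 1, 0, 0, 1, 1, 0, 0, 1, 1, 0] (Nat.shiftLeft 1 15)) = true := by decide +kernel

theorem cl91 : band (U.closedW W86 M88) (sub (Nat.shiftLeft 1 15) M88) = true := by decide +kernel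

theorem sz92 : sizeOk 10 M88 243 = true := by decide +kernel

theorem fx95 : U.closedW W94 (Nat.shiftLeft 1 15) = true := by decide +kernel

theorem gr97 : sub M96 (U.growI W94 [0] (Nat.shiftLeft 1 0)) = true := by decide +kernel

theorem cl99 : band (U.closedW W94 M96) (sub (Nat.shiftLeft 1 0) M96) = true := by decide +kernel

theorem sz100 : sizeOk 10 M96 2 = true := by decide +kernel

theorem gr105 : sub M104 (U.growI W103 [0, 1, 1, 0, 0, 1, 1, 0, 0, 1, 1] (Nat.shiftLeft 1 2)) = true := by decide +kernel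

theorem cl107 : band (U.closedW W103 M104) (sub (Nat.shiftLeft 1 2) M104) = true := by decide +kernel

theorem sz108 : sizeOk 10 M104 54 = true := by decide +kernel

theorem gr112 : sub M111 (U.growI W110 [0, 1, 0] (Nat.shiftLeft 1 2)) = true := by decide +kernel

theorem cl114 : band (U.closedW W110 M111) (sub (Nat.shiftLeft 1 2) M111) = true := by decide +kernel

theorem sz115 : sizeOk 10 M111 6 = true := by decide +kernel

theorem gr119 : sub M118 (U.growI W117 [0, 1, 1, 0, 0, 1, 1, 0, 0, 1, 1, 0, 0, 1] (Nat.shiftLeft 1 15)) = true := by decide +kernel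

theorem cl121 : band (U.closedW W117 M118) (sub (Nat.shiftLeft 1 15) M118) = true := by decide +kernel

theorem sz122 : sizeOk 10 M118 126 = true := by decide +kernel

theorem gr126 : sub M125 (U.growI W124 [0, 1, 1, 0, 0, 1, 1, 0, 0, 1, 1, 0, 0, 1] (Nat.shiftLeft 1 1)) = true := by decide +kernel

theorem cl128 : band (U.closedW W124 M125) (sub (Nat.shiftLeft 1 1) M125) = true := by decide +kernel

theorem sz129 : sizeOk 10 M125 72 = true := by decide +kernel

theorem uok36 : Net.okb 10 un36 = true := by decide +kernel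

theorem rel132 : U.rel 10 [73, 53, 51, 51, 51, 53, 53, 53, 53, 51, 53, 53, 53, 51, 53, 51, 51, 51, 53, 53, 51, 51, 53] 0 10 = true := by decide +kernel

theorem uok37 : Net.okb 10 un37 = true := by decide +kernel

theorem rel133 : U.rel 10 [75, 51, 53, 51, 53, 51, 53, 53, 51, 53, 53, 53, 53, 53, 51, 53, 51, 51, 51, 51, 51, 51, 51, 51, 53, 53, 51, 51] 0 10 = true := by decide +kernel

theorem gr135 : sub M134 (U.growI W131 [0, 1, 1, 0, 0, 1, 1, 0, 0, 1, 1, 0, 0, 1, 1, 0, 0, 1] (Nat.shiftLeft 1 0)) = true := by decide +kernel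

theorem cl137 : band (U.closedW W131 M134) (sub (Nat.shiftLeft 1 0) M134) = true := by decide +kernel

theorem sz138 : sizeOk 10 M134 588 = true := by decide +kernel

theorem fx141 : U.closedW W140 (Nat.shiftLeft 1 0) = true := by decide +kernel

theorem gr143 : sub M142 (U.growI W140 [0, 1, 0] (Nat.shiftLeft 1 1)) = true := by decide +kernel

theorem cl145 : band (U.closedW W140 M142) (sub (Nat.shiftLeft 1 1) M142) = true := by decide +kernel

theorem sz146 : sizeOk 10 M142 6 = true := by decide +kernel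

theorem gr151 : sub M150 (U.growI W149 [0, 1, 1, 0, 1, 1, 0, 1, 1, 0, 1, 1, 0] (Nat.shiftLeft 1 1)) = true := by decide +kernel

theorem cl153 : band (U.closedW W149 M150) (sub (Nat.shiftLeft 1 1) M150) = true := by decide +kernel

theorem sz154 : sizeOk 10 M150 78 = true := by decide +kernel

end Cfsg.Agent.Spor.ThD.VB
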