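import Cfsg.Agent.Spor.Prim
import Cfsg.Agent.Spor.ThD.Main
import Cfsg.Agent.Spor.ThD.VB.C0
import Cfsg.Agent.Spor.TT2
import Cfsg.Agent.Spor.DE3
import Cfsg.Agent.Spor.ThD.Grp

set_option autoImplicit false
set_option maxRecDepth 100000000
set_option Elab.async false

namespace Cfsg.Agent.Spor.ThD.VB

theorem hU : U.Ok 10 := U.ok_of 10 (show AllP (fun n => Net.okb 10 n = true) [n0, n1, n2, n3, n4, n5, n6, un7, un8, un9, un10, un11, un12, un13, un14, un15, un16, un17, un18, un19, un20, un21, un22, un23, un24, un25, un26, un27, un28, un29, un30, un31, un32, un33, un34, un35, un36, un37] from AllP.cons ok0 (AllP.cons ok1 (AllP.cons ok2 (AllP.cons ok3 (AllP.cons ok4 (AllP.cons ok5 (AllP.cons ok6 (AllP.cons uok7 (AllP.cons uok8 (AllP.cons uok9 (AllP.cons uok10 (AllP.cons uok11 (AllP.cons uok12 (AllP.cons uok13 (AllP.cons uok14 (AllP.cons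 uok15 (AllP.cons uok16 (AllP.cons uok17 (AllP.cons uok18 (AllP.cons uok19 (AllP.cons uok20 (AllP.cons uok21 (AllP.cons uok22 (AllP.cons uok23 (AllP.cons uok24 (AllP.cons uok25 (AllP.cons uok26 (AllP.cons uok27 (AllP.cons uok28 (AllP.cons uok29 (AllP.cons uok30 (AllP.cons uok31 (AllP.cons uok32 (AllP.cons uok33 (AllP.cons uok34 (AllP.cons uok35 (AllP.cons uok36 (AllP.cons uok37 (AllP.nil)))))))))))))))))))))))))))))))))))))))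

theorem hfP : ∀ j < 7, U.fP [1, 3, 5, 7, 9, 11, 13] j = fP j := by
  intro j hj
  interval_cases j <;> rfl
theorem eG : gsub 7 fP = U.lsub W1 := (gsub_congr hfP).symm.trans (lsub_eq_gsub U [1, 3, 5, 7, 9, 11, 13])
theorem upz1 : ev (atm 7 fP) [0] = U.τ 1 := pz1
theorem upz3 : ev (atm 7 fP) [2] = U.τ 3 := pz2
theorem upz5 : ev (atm 7 fP) [4] = U.τ 5 := pz3
theorem upz7 : ev (atm 7 fP) [6] = U.τ 7 := pz4
theorem upz9 : ev (atm 7 fP) [8] = U.τ 9 := pz5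
theorem upz11 : ev (atm 7 fP) [10] = U.τ 11 := pz6
theorem upz13 : ev (atm 7 fP) [12] = U.τ 13 := pz7
theorem eH : wsub 7 fP BW = U.lsub W2 :=
  lsub_eq_of_all₂ (show List.Forall₂ _ [[0], [4], [6], [8], [10], [12]] [[1], [5], [7], [9], [11], [13]] from List.Forall₂.cons (upz1.trans (one_mul _).symm) (List.Forall₂.cons (upz5.trans (one_mul _).symm) (List.Forall₂.cons (upz7.trans (one_mul _).symm) (List.Forall₂.cons (upz9.trans (one_mul _).symm) (List.Forall₂.cons (upz11.trans (one_mul _).symm) (List.Forall₂.cons (upz13.trans (one_mul _).symm) (List.Forall₂.nil)))))))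
theorem vpz1 : PZ U (atm 7 fP) EXU 1 := pz1
theorem vpz2 : PZ U (atm 7 fP) EXU 2 := PZ.of_inv hiv vpz1 (by decide +kernel)
theorem vpz3 : PZ U (atm 7 fP) EXU 3 := pz2
theorem vpz4 : PZ U (atm 7 fP) EXU 4 := PZ.of_inv hiv vpz3 (by decide +kernel)
theorem vpz5 : PZ U (atm 7 fP) EXU 5 := pz3
theorem vpz6 : PZ U (atm 7 fP) EXU 6 := PZ.of_inv hiv vpz5 (by decide +kernel)
theorem vpz7 : PZ U (atm 7 fP) EXU 7 := pz4
theorem vpz8 : PZ U (atm 7 fP) EXU 8 := PZ.of_inv hiv vpz7 (by decide +kernel)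
theorem vpz9 : PZ U (atm 7 fP) EXU 9 := pz5
theorem vpz10 : PZ U (atm 7 fP) EXU 10 := PZ.of_inv hiv vpz9 (by decide +kernel)
theorem vpz11 : PZ U (atm 7 fP) EXU 11 := pz6
theorem vpz12 : PZ U (atm 7 fP) EXU 12 := PZ.of_inv hiv vpz11 (by decide +kernel)
theorem vpz13 : PZ U (atm 7 fP) EXU 13 := pz7
theorem vpz14 : PZ U (atm 7 fP) EXU 14 := PZ.of_inv hiv vpz13 (by decide +kernel)
theorem vpz15 : PZ U (atm 7 fP) EXU 15 := PZ.of_def hiv (d := [12, 14, 10, 11, 8, 6, 8, 10, 12, 13, 4, 6, 8, 2, 4, 2, 5, 7, 9, 11]) (AllP.cons vpz12 (AllP.cons vpz14 (AllP.cons vpz10 (AllP.cons vpz11 (AllP.cons vpz8 (AllP.cons vpz6 (AllP.cons vpz8 (AllP.cons vpz10 (AllP.cons vpz12 (AllP.cons vpz13 (AllP.cons vpz4 (AllP.cons vpz6 (AllP.cons vpz8 (AllP.cons vpz2 (AllP.cons vpz4 (AllP.cons vpz2 (AllP.cons vpz5 (AllP.cons vpz7 (AllP.cons vpz9 (AllP.cons vpz11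 (AllP.nil))))))))))))))))))))) (hU.one rel3) (by decide +kernel)
theorem vpz16 : PZ U (atm 7 fP) EXU 16 := PZ.of_inv hiv vpz15 (by decide +kernel)
theorem vpz17 : PZ U (atm 7 fP) EXU 17 := PZ.of_def hiv (d := [12, 10, 8, 6, 8, 10, 11, 13, 8, 6, 8, 10, 4, 6, 2, 3]) (AllP.cons vpz12 (AllP.cons vpz10 (AllP.cons vpz8 (AllP.cons vpz6 (AllP.cons vpz8 (AllP.cons vpz10 (AllP.cons vpz11 (AllP.cons vpz13 (AllP.cons vpz8 (AllP.cons vpz6 (AllP.cons vpz8 (AllP.cons vpz10 (AllP.cons vpz4 (AllP.cons vpz6 (AllP.cons vpz2 (AllP.cons vpz3 (AllP.nil))))))))))))))))) (hU.one rel4) (by decide +kernel)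
theorem vpz18 : PZ U (atm 7 fP) EXU 18 := PZ.of_inv hiv vpz17 (by decide +kernel)
theorem vpz19 : PZ U (atm 7 fP) EXU 19 := PZ.of_def hiv (d := [11, 10, 11, 8, 6, 8, 10, 12, 4, 6, 8, 2, 4, 6, 8, 1, 9, 12]) (AllP.cons vpz11 (AllP.cons vpz10 (AllP.cons vpz11 (AllP.cons vpz8 (AllP.cons vpz6 (AllP.cons vpz8 (AllP.cons vpz10 (AllP.cons vpz12 (AllP.cons vpz4 (AllP.cons vpz6 (AllP.cons vpz8 (AllP.cons vpz2 (AllP.cons vpz4 (AllP.cons vpz6 (AllP.cons vpz8 (AllP.cons vpz1 (AllP.cons vpz9 (AllP.cons vpz12 (AllP.nil))))))))))))))))))) (hU.one rel5) (by decide +kernel)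
theorem vpz20 : PZ U (atm 7 fP) EXU 20 := PZ.of_inv hiv vpz19 (by decide +kernel)
theorem vpz21 : PZ U (atm 7 fP) EXU 21 := PZ.of_def hiv (d := [13, 11, 10, 4, 6, 8, 2, 4, 6, 8, 10, 12, 10, 6, 8, 5, 7, 9]) (AllP.cons vpz13 (AllP.cons vpz11 (AllP.cons vpz10 (AllP.cons vpz4 (AllP.cons vpz6 (AllP.cons vpz8 (AllP.cons vpz2 (AllP.cons vpz4 (AllP.cons vpz6 (AllP.cons vpz8 (AllP.cons vpz10 (AllP.cons vpz12 (AllP.cons vpz10 (AllP.cons vpz6 (AllP.cons vpz8 (AllP.cons vpz5 (AllP.cons vpz7 (AllP.cons vpz9 (AllP.nil))))))))))))))))))) (hU.one rel6) (by decide +kernel)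
theorem vpz22 : PZ U (atm 7 fP) EXU 22 := PZ.of_inv hiv vpz21 (by decide +kernel)
theorem vpz23 : PZ U (atm 7 fP) EXU 23 := PZ.of_def hiv (d := [11, 10, 11, 4, 6, 8, 10, 12, 6, 8, 4, 6, 8, 10, 8, 5, 7, 12, 12]) (AllP.cons vpz11 (AllP.cons vpz10 (AllP.cons vpz11 (AllP.cons vpz4 (AllP.cons vpz6 (AllP.cons vpz8 (AllP.cons vpz10 (AllP.cons vpz12 (AllP.cons vpz6 (AllP.cons vpz8 (AllP.cons vpz4 (AllP.cons vpz6 (AllP.cons vpz8 (AllP.cons vpz10 (AllP.cons vpz8 (AllP.cons vpz5 (AllP.cons vpz7 (AllP.cons vpz12 (AllP.cons vpz12 (AllP.nil)))))))))))))))))))) (hU.one rel7) (by decide +kernel)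
theorem vpz24 : PZ U (atm 7 fP) EXU 24 := PZ.of_inv hiv vpz23 (by decide +kernel)
theorem vpz25 : PZ U (atm 7 fP) EXU 25 := PZ.of_def hiv (d := [11, 13, 10, 12, 2, 4, 6, 8, 10, 2, 4, 6, 8, 6, 4, 2, 3, 12, 9, 7, 5, 3, 1, 12, 9]) (AllP.cons vpz11 (AllP.cons vpz13 (AllP.cons vpz10 (AllP.cons vpz12 (AllP.cons vpz2 (AllP.cons vpz4 (AllP.cons vpz6 (AllP.cons vpz8 (AllP.cons vpz10 (AllP.cons vpz2 (AllP.cons vpz4 (AllP.cons vpz6 (AllP.cons vpz8 (AllP.cons vpz6 (AllP.cons vpz4 (AllP.cons vpz2 (AllP.cons vpz3 (AllP.cons vpz12 (AllP.cons vpz9 (AllP.cons vpz7 (AllP.cons vpz5 (AllP.cons vpz3 (AllP.cons vpz1 (AllP.cons vpz12 (AllP.cons vpz9 (AllP.nil)))))))))))))))))))))))))) (hU.one rel8) (by decide +kernel)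
theorem vpz26 : PZ U (atm 7 fP) EXU 26 := PZ.of_inv hiv vpz25 (by decide +kernel)
theorem vpz27 : PZ U (atm 7 fP) EXU 27 := PZ.of_def hiv (d := [10, 8, 6, 8, 10, 4, 6, 8, 6, 8, 10, 12, 10, 12, 4, 5, 7, 5, 9, 7, 5, 3, 12, 9, 7]) (AllP.cons vpz10 (AllP.cons vpz8 (AllP.cons vpz6 (AllP.cons vpz8 (AllP.cons vpz10 (AllP.cons vpz4 (AllP.cons vpz6 (AllP.cons vpz8 (AllP.cons vpz6 (AllP.cons vpz8 (AllP.cons vpz10 (AllP.cons vpz12 (AllP.cons vpz10 (AllP.cons vpz12 (AllP.cons vpz4 (AllP.cons vpz5 (AllP.cons vpz7 (AllP.cons vpz5 (AllP.cons vpz9 (AllP.cons vpz7 (AllP.cons vpz5 (AllP.cons vpz3 (AllP.cons vpz12 (AllP.cons vpz9 (AllP.cons vpz7 (AllP.nil)))))))))))))))))))))))))) (hU.one rel9) (by decide +kernel)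
theorem vpz28 : PZ U (atm 7 fP) EXU 28 := PZ.of_inv hiv vpz27 (by decide +kernel)
theorem vpz29 : PZ U (atm 7 fP) EXU 29 := PZ.of_def hiv (d := [12, 14, 10, 6, 8, 6, 8, 4, 6, 8, 10, 12, 8, 6, 8, 3, 5, 3, 7, 9]) (AllP.cons vpz12 (AllP.cons vpz14 (AllP.cons vpz10 (AllP.cons vpz6 (AllP.cons vpz8 (AllP.cons vpz6 (AllP.cons vpz8 (AllP.cons vpz4 (AllP.cons vpz6 (AllP.cons vpz8 (AllP.cons vpz10 (AllP.cons vpz12 (AllP.cons vpz8 (AllP.cons vpz6 (AllP.cons vpz8 (AllP.cons vpz3 (AllP.cons vpz5 (AllP.cons vpz3 (AllP.cons vpz7 (AllP.cons vpz9 (AllP.nil))))))))))))))))))))) (hU.one rel10) (by decide +kernel)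
theorem vpz30 : PZ U (atm 7 fP) EXU 30 := PZ.of_inv hiv vpz29 (by decide +kernel)
theorem vpz31 : PZ U (atm 7 fP) EXU 31 := PZ.of_def hiv (d := [11, 13, 10, 11, 6, 8, 10, 12, 4, 6, 8, 10, 8, 6, 8, 1, 3, 5, 7, 5, 9, 12, 9, 11]) (AllP.cons vpz11 (AllP.cons vpz13 (AllP.cons vpz10 (AllP.cons vpz11 (AllP.cons vpz6 (AllP.cons vpz8 (AllP.cons vpz10 (AllP.cons vpz12 (AllP.cons vpz4 (AllP.cons vpz6 (AllP.cons vpz8 (AllP.cons vpz10 (AllP.cons vpz8 (AllP.cons vpz6 (AllP.cons vpz8 (AllP.cons vpz1 (AllP.cons vpz3 (AllP.cons vpz5 (AllP.cons vpz7 (AllP.cons vpz5 (AllP.cons vpz9 (AllP.cons vpz12 (AllP.cons vpz9 (AllP.cons vpz11 (AllP.nil))))))))))))))))))))))))) (hU.one rel11) (by decide +kernel)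
theorem vpz32 : PZ U (atm 7 fP) EXU 32 := PZ.of_inv hiv vpz31 (by decide +kernel)
theorem vpz33 : PZ U (atm 7 fP) EXU 33 := PZ.of_def hiv (d := [13, 6, 8, 4, 6, 8, 2, 4, 6, 8, 10, 6, 8, 6]) (AllP.cons vpz13 (AllP.cons vpz6 (AllP.cons vpz8 (AllP.cons vpz4 (AllP.cons vpz6 (AllP.cons vpz8 (AllP.cons vpz2 (AllP.cons vpz4 (AllP.cons vpz6 (AllP.cons vpz8 (AllP.cons vpz10 (AllP.cons vpz6 (AllP.cons vpz8 (AllP.cons vpz6 (AllP.nil))))))))))))))) (hU.one rel12) (by decide +kernel)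
theorem vpz34 : PZ U (atm 7 fP) EXU 34 := PZ.of_inv hiv vpz33 (by decide +kernel)
theorem vpz35 : PZ U (atm 7 fP) EXU 35 := PZ.of_def hiv (d := [12, 4, 6, 8, 10, 12, 12, 2, 4, 6, 8, 10, 6, 8, 4, 2, 5, 3, 12, 9, 7, 5, 3, 7, 5, 12, 14]) (AllP.cons vpz12 (AllP.cons vpz4 (AllP.cons vpz6 (AllP.cons vpz8 (AllP.cons vpz10 (AllP.cons vpz12 (AllP.cons vpz12 (AllP.cons vpz2 (AllP.cons vpz4 (AllP.cons vpz6 (AllP.cons vpz8 (AllP.cons vpz10 (AllP.cons vpz6 (AllP.cons vpz8 (AllP.cons vpz4 (AllP.cons vpz2 (AllP.cons vpz5 (AllP.cons vpz3 (AllP.cons vpz12 (AllP.cons vpz9 (AllP.cons vpz7 (AllP.cons vpz5 (AllP.cons vpz3 (AllP.cons vpz7 (AllP.cons vpz5 (AllP.cons vpz12 (AllP.cons vpz14 (AllP.nil)))))))))))))))))))))))))))) (hU.one rel13) (by decide +kernel)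
theorem vpz36 : PZ U (atm 7 fP) EXU 36 := PZ.of_inv hiv vpz35 (by decide +kernel)
theorem vpz37 : PZ U (atm 7 fP) EXU 37 := PZ.of_def hiv (d := [14, 2, 4, 6, 8, 10, 11, 8, 6, 8, 4, 6, 8, 10, 8, 5, 7, 5, 14, 11, 9, 7, 12]) (AllP.cons vpz14 (AllP.cons vpz2 (AllP.cons vpz4 (AllP.cons vpz6 (AllP.cons vpz8 (AllP.cons vpz10 (AllP.cons vpz11 (AllP.cons vpz8 (AllP.cons vpz6 (AllP.cons vpz8 (AllP.cons vpz4 (AllP.cons vpz6 (AllP.cons vpz8 (AllP.cons vpz10 (AllP.cons vpz8 (AllP.cons vpz5 (AllP.cons vpz7 (AllP.cons vpz5 (AllP.cons vpz14 (AllP.cons vpz11 (AllP.cons vpz9 (AllP.cons vpz7 (AllP.cons vpz12 (AllP.nil)))))))))))))))))))))))) (hU.one rel14) (by decide +kernel)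
theorem vpz38 : PZ U (atm 7 fP) EXU 38 := PZ.of_inv hiv vpz37 (by decide +kernel)
theorem vpz39 : PZ U (atm 7 fP) EXU 39 := PZ.of_def hiv (d := [10, 8, 6, 8, 10, 8, 6, 8, 4, 6, 8, 2, 4, 6, 8, 1]) (AllP.cons vpz10 (AllP.cons vpz8 (AllP.cons vpz6 (AllP.cons vpz8 (AllP.cons vpz10 (AllP.cons vpz8 (AllP.cons vpz6 (AllP.cons vpz8 (AllP.cons vpz4 (AllP.cons vpz6 (AllP.cons vpz8 (AllP.cons vpz2 (AllP.cons vpz4 (AllP.cons vpz6 (AllP.cons vpz8 (AllP.cons vpz1 (AllP.nil))))))))))))))))) (hU.one rel15) (by decide +kernel)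
theorem vpz40 : PZ U (atm 7 fP) EXU 40 := PZ.of_inv hiv vpz39 (by decide +kernel)
theorem vpz41 : PZ U (atm 7 fP) EXU 41 := PZ.of_def hiv (d := [4, 6, 8, 2, 4, 6, 8, 10, 8, 6, 8, 4, 6, 8, 4, 2, 3, 5, 7]) (AllP.cons vpz4 (AllP.cons vpz6 (AllP.cons vpz8 (AllP.cons vpz2 (AllP.cons vpz4 (AllP.cons vpz6 (AllP.cons vpz8 (AllP.cons vpz10 (AllP.cons vpz8 (AllP.cons vpz6 (AllP.cons vpz8 (AllP.cons vpz4 (AllP.cons vpz6 (AllP.cons vpz8 (AllP.cons vpz4 (AllP.cons vpz2 (AllP.cons vpz3 (AllP.cons vpz5 (AllP.cons vpz7 (AllP.nil)))))))))))))))))))) (hU.one rel16) (by decide +kernel)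
theorem vpz42 : PZ U (atm 7 fP) EXU 42 := PZ.of_inv hiv vpz41 (by decide +kernel)
theorem vpz43 : PZ U (atm 7 fP) EXU 43 := PZ.of_def hiv (d := [6, 8, 2, 4, 6, 8, 10, 8, 6, 8, 4, 6, 8, 10, 4, 2, 3, 5]) (AllP.cons vpz6 (AllP.cons vpz8 (AllP.cons vpz2 (AllP.cons vpz4 (AllP.cons vpz6 (AllP.cons vpz8 (AllP.cons vpz10 (AllP.cons vpz8 (AllP.cons vpz6 (AllP.cons vpz8 (AllP.cons vpz4 (AllP.cons vpz6 (AllP.cons vpz8 (AllP.cons vpz10 (AllP.cons vpz4 (AllP.cons vpz2 (AllP.cons vpz3 (AllP.cons vpz5 (AllP.nil))))))))))))))))))) (hU.one rel17) (by decide +kernel)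
theorem vpz44 : PZ U (atm 7 fP) EXU 44 := PZ.of_inv hiv vpz43 (by decide +kernel)
theorem vpz45 : PZ U (atm 7 fP) EXU 45 := PZ.of_def hiv (d := [13, 10, 4, 6, 8, 2, 4, 6, 8, 6]) (AllP.cons vpz13 (AllP.cons vpz10 (AllP.cons vpz4 (AllP.cons vpz6 (AllP.cons vpz8 (AllP.cons vpz2 (AllP.cons vpz4 (AllP.cons vpz6 (AllP.cons vpz8 (AllP.cons vpz6 (AllP.nil))))))))))) (hU.one rel18) (by decide +kernel)
theorem vpz46 : PZ U (atm 7 fP) EXU 46 := PZ.of_inv hiv vpz45 (by decide +kernel)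
theorem vpz47 : PZ U (atm 7 fP) EXU 47 := PZ.of_def hiv (d := [12, 8, 10, 11, 14, 8, 6, 8, 10, 12, 8, 2, 4, 6, 4, 2, 3, 7, 9, 12, 9]) (AllP.cons vpz12 (AllP.cons vpz8 (AllP.cons vpz10 (AllP.cons vpz11 (AllP.cons vpz14 (AllP.cons vpz8 (AllP.cons vpz6 (AllP.cons vpz8 (AllP.cons vpz10 (AllP.cons vpz12 (AllP.cons vpz8 (AllP.cons vpz2 (AllP.cons vpz4 (AllP.cons vpz6 (AllP.cons vpz4 (AllP.cons vpz2 (AllP.cons vpz3 (AllP.cons vpz7 (AllP.cons vpz9 (AllP.cons vpz12 (AllP.cons vpz9 (AllP.nil)))))))))))))))))))))) (hU.one rel19) (by decide +kernel)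
theorem vpz48 : PZ U (atm 7 fP) EXU 48 := PZ.of_inv hiv vpz47 (by decide +kernel)
theorem vpz49 : PZ U (atm 7 fP) EXU 49 := PZ.of_def hiv (d := [11, 10, 12, 13, 8, 10, 11, 6, 8, 4, 6, 8, 10, 8, 4, 2, 3, 5, 12, 9, 7, 5, 11]) (AllP.cons vpz11 (AllP.cons vpz10 (AllP.cons vpz12 (AllP.cons vpz13 (AllP.cons vpz8 (AllP.cons vpz10 (AllP.cons vpz11 (AllP.cons vpz6 (AllP.cons vpz8 (AllP.cons vpz4 (AllP.cons vpz6 (AllP.cons vpz8 (AllP.cons vpz10 (AllP.cons vpz8 (AllP.cons vpz4 (AllP.cons vpz2 (AllP.cons vpz3 (AllP.cons vpz5 (AllP.cons vpz12 (AllP.cons vpz9 (AllP.cons vpz7 (AllP.cons vpz5 (AllP.cons vpz11 (AllP.nil)))))))))))))))))))))))) (hU.one rel20) (by decide +kernel)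
theorem vpz50 : PZ U (atm 7 fP) EXU 50 := PZ.of_inv hiv vpz49 (by decide +kernel)
theorem vpz51 : PZ U (atm 7 fP) EXU 51 := PZ.of_def hiv (d := [12, 8, 10, 12, 4, 6, 8, 10, 11, 6, 8, 10, 6, 8, 6, 3, 1, 5, 7, 9, 7, 5, 14, 12, 9]) (AllP.cons vpz12 (AllP.cons vpz8 (AllP.cons vpz10 (AllP.cons vpz12 (AllP.cons vpz4 (AllP.cons vpz6 (AllP.cons vpz8 (AllP.cons vpz10 (AllP.cons vpz11 (AllP.cons vpz6 (AllP.cons vpz8 (AllP.cons vpz10 (AllP.cons vpz6 (AllP.cons vpz8 (AllP.cons vpz6 (AllP.cons vpz3 (AllP.cons vpz1 (AllP.cons vpz5 (AllP.cons vpz7 (AllP.cons vpz9 (AllP.cons vpz7 (AllP.cons vpz5 (AllP.cons vpz14 (AllP.cons vpz12 (AllP.cons vpz9 (AllP.nil)))))))))))))))))))))))))) (hU.one rel21) (by decide +kernel)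
theorem vpz52 : PZ U (atm 7 fP) EXU 52 := PZ.of_inv hiv vpz51 (by decide +kernel)
theorem vpz53 : PZ U (atm 7 fP) EXU 53 := PZ.of_def hiv (d := [13, 11, 8, 10, 4, 6, 8, 6, 8, 10, 12, 12, 4, 6, 8, 5, 9, 7, 5, 3, 12, 9, 7, 5, 3, 12]) (AllP.cons vpz13 (AllP.cons vpz11 (AllP.cons vpz8 (AllP.cons vpz10 (AllP.cons vpz4 (AllP.cons vpz6 (AllP.cons vpz8 (AllP.cons vpz6 (AllP.cons vpz8 (AllP.cons vpz10 (AllP.cons vpz12 (AllP.cons vpz12 (AllP.cons vpz4 (AllP.cons vpz6 (AllP.cons vpz8 (AllP.cons vpz5 (AllP.cons vpz9 (AllP.cons vpz7 (AllP.cons vpz5 (AllP.cons vpz3 (AllP.cons vpz12 (AllP.cons vpz9 (AllP.cons vpz7 (AllP.cons vpz5 (AllP.cons vpz3 (AllP.cons vpz12 (AllP.nil))))))))))))))))))))))))))) (hU.one rel22) (by decide +kernel)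
theorem vpz54 : PZ U (atm 7 fP) EXU 54 := PZ.of_inv hiv vpz53 (by decide +kernel)
theorem vpz55 : PZ U (atm 7 fP) EXU 55 := PZ.of_def hiv (d := [12, 8, 10, 11, 6, 8, 6, 8, 10, 11, 10, 8, 4, 6, 8, 3, 5, 3, 9, 7, 5, 3, 12, 12, 12, 9, 7]) (AllP.cons vpz12 (AllP.cons vpz8 (AllP.cons vpz10 (AllP.cons vpz11 (AllP.cons vpz6 (AllP.cons vpz8 (AllP.cons vpz6 (AllP.cons vpz8 (AllP.cons vpz10 (AllP.cons vpz11 (AllP.cons vpz10 (AllP.cons vpz8 (AllP.cons vpz4 (AllP.cons vpz6 (AllP.cons vpz8 (AllP.cons vpz3 (AllP.cons vpz5 (AllP.cons vpz3 (AllP.cons vpz9 (AllP.cons vpz7 (AllP.cons vpz5 (AllP.cons vpz3 (AllP.cons vpz12 (AllP.cons vpz12 (AllP.cons vpz12 (AllP.cons vpz9 (AllP.cons vpz7 (AllP.nil)))))))))))))))))))))))))))) (hU.one rel23) (by decide +kernel)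
theorem vpz56 : PZ U (atm 7 fP) EXU 56 := PZ.of_inv hiv vpz55 (by decide +kernel)
theorem vpz57 : PZ U (atm 7 fP) EXU 57 := PZ.of_def hiv (d := [12, 10, 11, 6, 8, 10, 12, 4, 6, 8, 10, 2, 4, 6, 8, 3, 5, 3, 7, 9, 7, 13, 11, 9]) (AllP.cons vpz12 (AllP.cons vpz10 (AllP.cons vpz11 (AllP.cons vpz6 (AllP.cons vpz8 (AllP.cons vpz10 (AllP.cons vpz12 (AllP.cons vpz4 (AllP.cons vpz6 (AllP.cons vpz8 (AllP.cons vpz10 (AllP.cons vpz2 (AllP.cons vpz4 (AllP.cons vpz6 (AllP.cons vpz8 (AllP.cons vpz3 (AllP.cons vpz5 (AllP.cons vpz3 (AllP.cons vpz7 (AllP.cons vpz9 (AllP.cons vpz7 (AllP.cons vpz13 (AllP.cons vpz11 (AllP.cons vpz9 (AllP.nil))))))))))))))))))))))))) (hU.one rel24) (by decide +kernel)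
theorem vpz58 : PZ U (atm 7 fP) EXU 58 := PZ.of_inv hiv vpz57 (by decide +kernel)
theorem hPZU : AllP (PZ U (atm 7 fP) EXU) LU :=
  show AllP (PZ U (atm 7 fP) EXU) [1, 2, 3, 4, 5, 6, 7, 8, 9, 10, 11, 12, 13, 14, 15, 16, 17, 18, 19, 20, 21, 22, 23, 24, 25, 26, 27, 28, 29, 30, 31, 32, 33, 34, 35, 36, 37, 38, 39, 40, 41, 42, 43, 44, 45, 46, 47, 48, 49, 50, 51, 52, 53, 54, 55, 56, 57, 58] from AllP.cons vpz1 (AllP.cons vpz2 (AllP.cons vpz3 (AllP.cons vpz4 (AllP.cons vpz5 (AllP.cons vpz6 (AllP.cons vpz7 (AllP.cons vpz8 (AllP.cons vpz9 (AllP.cons vpz10 (AllP.cons vpz11 (AllP.cons vpz12 (AllP.cons vpz13 (AllP.cons vpz14 (AllP.cons vpz15 (AllP.cons vpz16 (AllP.cons vpz17 (AllP.cons vpz18 (AllP.cons vpz19 (AllP.cons vpz20 (AllP.cons vpz21 (AllP.cons vpz22 (AllP.cons vpz23 (AllP.cons vpz24 (AllP.cons vpz25 (AllP.cons vpz26 (AllP.cons vpz27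 (AllP.cons vpz28 (AllP.cons vpz29 (AllP.cons vpz30 (AllP.cons vpz31 (AllP.cons vpz32 (AllP.cons vpz33 (AllP.cons vpz34 (AllP.cons vpz35 (AllP.cons vpz36 (AllP.cons vpz37 (AllP.cons vpz38 (AllP.cons vpz39 (AllP.cons vpz40 (AllP.cons vpz41 (AllP.cons vpz42 (AllP.cons vpz43 (AllP.cons vpz44 (AllP.cons vpz45 (AllP.cons vpz46 (AllP.cons vpz47 (AllP.cons vpz48 (AllP.cons vpz49 (AllP.cons vpz50 (AllP.cons vpz51 (AllP.cons vpz52 (AllP.cons vpz53 (AllP.cons vpz54 (AllP.cons vpz55 (AllP.cons vpz56 (AllP.cons vpz57 (AllP.cons vpz58 (AllP.nil))))))))))))))))))))))))))))))))))))))))))))))))))))))))))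
theorem eL : wsub 7 fP [[10, 12, 8, 11, 6, 4, 6, 8, 10, 13, 2, 4, 6, 0, 2, 0, 5, 7, 9, 11], [10, 8, 6, 4, 6, 8, 11, 13, 6, 4, 6, 8, 2, 4, 0, 3]] = U.lsub W25 :=
  lsub_eq_of_all₂ (show List.Forall₂ _ [[10, 12, 8, 11, 6, 4, 6, 8, 10, 13, 2, 4, 6, 0, 2, 0, 5, 7, 9, 11], [10, 8, 6, 4, 6, 8, 11, 13, 6, 4, 6, 8, 2, 4, 0, 3]] [[15], [17]] from List.Forall₂.cons ((show ev (atm 7 fP) [10, 12, 8, 11, 6, 4, 6, 8, 10, 13, 2, 4, 6, 0, 2, 0, 5, 7, 9, 11] = U.τ 15 from vpz15).trans (one_mul _).symm) (List.Forall₂.cons ((show ev (atm 7 fP) [10, 8, 6, 4, 6, 8, 11, 13, 6, 4, 6, 8, 2, 4, 0, 3] = U.τ 17 from vpz17).trans (one_mul _).symm) (List.Forall₂.nil)))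
theorem reach30 : Reach (U.lsub W25) 1 M28 := (Reach.grow hU (Reach.base _ 1) gr29)
theorem orb33 : (orbS (U.lsub W25) 1).ncard = 768 := reach30.ncard hU cl31 sz32
theorem orb33e : orbS (U.lsub W25) 1 = {c | Nat.testBit M28 c = true} := reach30.orb hU cl31
theorem reach38 : Reach (U.lsub W34) 51 M36 := (Reach.grow hU (Reach.base _ 51) gr37)
theorem orb41 : (orbS (U.lsub W34) 51).ncard = 48 := reach38.ncard hU cl39 sz40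
theorem orb41e : orbS (U.lsub W34) 51 = {c | Nat.testBit M36 c = true} := reach38.orb hU cl39
theorem lbL42 : 48 ∣ Nat.card (U.lsub W34) := dvd_card_orb orb41
theorem lbL : 36864 ∣ Nat.card (U.lsub W25) :=
  dvd_card_step (s := 768) (M := 48) (B := U.lsub W34) (Tab.lsub_le_all (AllP.cons (mem_of_rel (hU.one rel26) (U.mem_letters (by decide))) (AllP.cons (mem_of_rel (hU.one rel27) (U.mem_letters (by decide))) (AllP.nil)))) (hU.fixes fx35) orb33 lbL42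
theorem cardL : 36864 ∣ Nat.card (wsub 7 p [[10, 12, 8, 11, 6, 4, 6, 8, 10, 13, 2, 4, 6, 0, 2, 0, 5, 7, 9, 11], [10, 8, 6, 4, 6, 8, 11, 13, 6, 4, 6, 8, 2, 4, 0, 3]]) := by
  rw [card_wsub_lift, eL]; exact lbL
theorem eS1 : wsub 7 fP [[11, 8, 11, 6, 4, 6, 8, 10, 2, 4, 6, 0, 2, 4, 6, 1, 9, 10], [13, 11, 8, 2, 4, 6, 0, 2, 4, 6, 8, 10, 8, 4, 6, 5, 7, 9]] = U.lsub W43 :=
  lsub_eq_of_all₂ (show List.Forall₂ _ [[11, 8, 11, 6, 4, 6, 8, 10, 2, 4, 6, 0, 2, 4, 6, 1, 9, 10], [13, 11, 8, 2, 4, 6, 0, 2, 4, 6, 8, 10, 8, 4, 6, 5, 7, 9]] [[19], [21]] from List.Forall₂.cons ((show ev (atm 7 fP) [11, 8, 11, 6, 4, 6, 8, 10, 2, 4, 6, 0, 2, 4, 6, 1, 9, 10] = U.τ 19 from vpz19).trans (one_mul _).symm) (List.Forall₂.cons ((show ev (atm 7 fP) [13, 11, 8, 2, 4, 6, 0, 2, 4, 6, 8, 10, 8, 4, 6, 5, 7, 9] = U.τ 21 from vpz21).trans (one_mul _).symm) (List.Forall₂.nil)))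
theorem reach48 : Reach (U.lsub W43) 1 M46 := (Reach.grow hU (Reach.base _ 1) gr47)
theorem orb51 : (orbS (U.lsub W43) 1).ncard = 768 := reach48.ncard hU cl49 sz50
theorem orb51e : orbS (U.lsub W43) 1 = {c | Nat.testBit M46 c = true} := reach48.orb hU cl49
theorem reach56 : Reach (U.lsub W52) 51 M54 := (Reach.grow hU (Reach.base _ 51) gr55)
theorem orb59 : (orbS (U.lsub W52) 51).ncard = 48 := reach56.ncard hU cl57 sz58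
theorem orb59e : orbS (U.lsub W52) 51 = {c | Nat.testBit M54 c = true} := reach56.orb hU cl57
theorem lbS160 : 48 ∣ Nat.card (U.lsub W52) := dvd_card_orb orb59
theorem lbS1 : 36864 ∣ Nat.card (U.lsub W43) :=
  dvd_card_step (s := 768) (M := 48) (B := U.lsub W52) (Tab.lsub_le_all (AllP.cons (mem_of_rel (hU.one rel44) (U.mem_letters (by decide))) (AllP.cons (mem_of_rel (hU.one rel45) (U.mem_letters (by decide))) (AllP.nil)))) (hU.fixes fx53) orb51 lbS160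
theorem cardS1 : 36864 ∣ Nat.card (wsub 7 p [[11, 8, 11, 6, 4, 6, 8, 10, 2, 4, 6, 0, 2, 4, 6, 1, 9, 10], [13, 11, 8, 2, 4, 6, 0, 2, 4, 6, 8, 10, 8, 4, 6, 5, 7, 9]]) := by
  rw [card_wsub_lift, eS1]; exact lbS1
theorem eS15 : wsub 7 fP [[11, 8, 11, 2, 4, 6, 8, 10, 4, 6, 2, 4, 6, 8, 6, 5, 7, 10, 10], [11, 13, 8, 10, 0, 2, 4, 6, 8, 0, 2, 4, 6, 4, 2, 0, 3, 10, 9, 7, 5, 3, 1, 10, 9]] = U.lsub W61 :=
  lsub_eq_of_all₂ (show List.Forall₂ _ [[11, 8, 11, 2, 4, 6, 8, 10, 4, 6, 2, 4, 6, 8, 6, 5, 7, 10, 10], [11, 13, 8, 10, 0, 2, 4, 6, 8, 0, 2, 4, 6, 4, 2, 0, 3, 10, 9, 7, 5, 3, 1, 10, 9]] [[23], [25]] from List.Forall₂.cons ((show ev (atm 7 fP) [11, 8, 11, 2, 4, 6, 8, 10, 4, 6, 2, 4, 6, 8, 6, 5, 7, 10, 10] = U.τ 23 from vpz23).trans (one_mul _).symm) (List.Forall₂.cons ((show ev (atm 7 fP) [11, 13, 8, 10, 0, 2, 4, 6, 8, 0, 2, 4, 6, 4, 2,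 0, 3, 10, 9, 7, 5, 3, 1, 10, 9] = U.τ 25 from vpz25).trans (one_mul _).symm) (List.Forall₂.nil)))
theorem reach66 : Reach (U.lsub W61) 1 M64 := (Reach.grow hU (Reach.base _ 1) gr65)
theorem orb69 : (orbS (U.lsub W61) 1).ncard = 512 := reach66.ncard hU cl67 sz68
theorem orb69e : orbS (U.lsub W61) 1 = {c | Nat.testBit M64 c = true} := reach66.orb hU cl67
theorem reach74 : Reach (U.lsub W70) 15 M72 := (Reach.grow hU (Reach.base _ 15) gr73)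
theorem orb77 : (orbS (U.lsub W70) 15).ncard = 27 := reach74.ncard hU cl75 sz76
theorem orb77e : orbS (U.lsub W70) 15 = {c | Nat.testBit M72 c = true} := reach74.orb hU cl75
theorem lbS1578 : 27 ∣ Nat.card (U.lsub W70) := dvd_card_orb orb77
theorem lbS15 : 13824 ∣ Nat.card (U.lsub W61) :=
  dvd_card_step (s := 512) (M := 27) (B := U.lsub W70) (Tab.lsub_le_all (AllP.cons (mem_of_rel (hU.one rel62) (U.mem_letters (by decide))) (AllP.cons (mem_of_rel (hU.one rel63) (U.mem_letters (by decide))) (AllP.nil)))) (hU.fixes fx71) orb69 lbS1578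
theorem cardS15 : 13824 ∣ Nat.card (wsub 7 p [[11, 8, 11, 2, 4, 6, 8, 10, 4, 6, 2, 4, 6, 8, 6, 5, 7, 10, 10], [11, 13, 8, 10, 0, 2, 4, 6, 8, 0, 2, 4, 6, 4, 2, 0, 3, 10, 9, 7, 5, 3, 1, 10, 9]]) := by
  rw [card_wsub_lift, eS15]; exact lbS15
theorem eS19 : wsub 7 fP [[8, 6, 4, 6, 8, 2, 4, 6, 4, 6, 8, 10, 8, 10, 2, 5, 7, 5, 9, 7, 5, 3, 10, 9, 7], [10, 12, 8, 4, 6, 4, 6, 2, 4, 6, 8, 10, 6, 4, 6, 3, 5, 3, 7, 9]] = U.lsub W79 :=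
  lsub_eq_of_all₂ (show List.Forall₂ _ [[8, 6, 4, 6, 8, 2, 4, 6, 4, 6, 8, 10, 8, 10, 2, 5, 7, 5, 9, 7, 5, 3, 10, 9, 7], [10, 12, 8, 4, 6, 4, 6, 2, 4, 6, 8, 10, 6, 4, 6, 3, 5, 3, 7, 9]] [[27], [29]] from List.Forall₂.cons ((show ev (atm 7 fP) [8, 6, 4, 6, 8, 2, 4, 6, 4, 6, 8, 10, 8, 10, 2, 5, 7, 5, 9, 7, 5, 3, 10, 9, 7] = U.τ 27 from vpz27).trans (one_mul _).symm) (List.Forall₂.cons ((show ev (atm 7 fP) [10, 12, 8, 4, 6, 4, 6, 2, 4, 6, 8, 10, 6, 4, 6, 3, 5, 3, 7, 9] = U.τ 29 from vpz29).trans (one_mul _).symm) (List.Forall₂.nil)))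
theorem reach82 : Reach (U.lsub W79) 5 M80 := (Reach.grow hU (Reach.base _ 5) gr81)
theorem orb85 : (orbS (U.lsub W79) 5).ncard = 288 := reach82.ncard hU cl83 sz84
theorem orb85e : orbS (U.lsub W79) 5 = {c | Nat.testBit M80 c = true} := reach82.orb hU cl83
theorem lbS19 : 288 ∣ Nat.card (U.lsub W79) := dvd_card_orb orb85
theorem cardS19 : 288 ∣ Nat.card (wsub 7 p [[8, 6, 4, 6, 8, 2, 4, 6, 4, 6, 8, 10, 8, 10, 2, 5, 7, 5, 9, 7, 5, 3, 10, 9, 7], [10, 12, 8, 4, 6, 4, 6, 2, 4, 6, 8, 10, 6, 4, 6, 3, 5, 3, 7, 9]]) := by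
  rw [card_wsub_lift, eS19]; exact lbS19
theorem eS21 : wsub 7 fP [[11, 13, 8, 11, 4, 6, 8, 10, 2, 4, 6, 8, 6, 4, 6, 1, 3, 5, 7, 5, 9, 10, 9, 11], [13, 4, 6, 2, 4, 6, 0, 2, 4, 6, 8, 4, 6, 4]] = U.lsub W86 :=
  lsub_eq_of_all₂ (show List.Forall₂ _ [[11, 13, 8, 11, 4, 6, 8, 10, 2, 4, 6, 8, 6, 4, 6, 1, 3, 5, 7, 5, 9, 10, 9, 11], [13, 4, 6, 2, 4, 6, 0, 2, 4, 6, 8, 4, 6, 4]] [[31], [33]] from List.Forall₂.cons ((show ev (atm 7 fP) [11, 13, 8, 11, 4, 6, 8, 10, 2, 4, 6, 8, 6, 4, 6, 1, 3, 5, 7, 5, 9, 10, 9, 11] = U.τ 31 from vpz31).trans (one_mul _).symm) (List.Forall₂.cons ((show ev (atm 7 fP) [13, 4, 6, 2, 4, 6, 0, 2, 4, 6, 8, 4, 6, 4] = U.τ 33 from vpz33).trans (one_mul _).symm) (List.Forall₂.nil)))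
theorem reach90 : Reach (U.lsub W86) 15 M88 := (Reach.grow hU (Reach.base _ 15) gr89)
theorem orb93 : (orbS (U.lsub W86) 15).ncard = 243 := reach90.ncard hU cl91 sz92
theorem orb93e : orbS (U.lsub W86) 15 = {c | Nat.testBit M88 c = true} := reach90.orb hU cl91
theorem reach98 : Reach (U.lsub W94) 0 M96 := (Reach.grow hU (Reach.base _ 0) gr97)
theorem orb101 : (orbS (U.lsub W94) 0).ncard = 2 := reach98.ncard hU cl99 sz100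
theorem orb101e : orbS (U.lsub W94) 0 = {c | Nat.testBit M96 c = true} := reach98.orb hU cl99
theorem lbS21102 : 2 ∣ Nat.card (U.lsub W94) := dvd_card_orb orb101
theorem lbS21 : 486 ∣ Nat.card (U.lsub W86) :=
  dvd_card_step (s := 243) (M := 2) (B := U.lsub W94) (Tab.lsub_le_all (AllP.cons (mem_of_rel (hU.one rel87) (U.mem_letters (by decide))) (AllP.nil))) (hU.fixes fx95) orb93 lbS21102
theorem cardS21 : 486 ∣ Nat.card (wsub 7 p [[11, 13, 8, 11, 4, 6, 8, 10, 2, 4, 6, 8, 6, 4, 6, 1, 3, 5, 7, 5, 9, 10, 9, 11], [13, 4, 6, 2, 4, 6, 0, 2, 4, 6, 8, 4, 6, 4]]) := by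
  rw [card_wsub_lift, eS21]; exact lbS21
theorem eS22 : wsub 7 fP [[10, 2, 4, 6, 8, 10, 10, 0, 2, 4, 6, 8, 4, 6, 2, 0, 5, 3, 10, 9, 7, 5, 3, 7, 5, 10, 12], [12, 0, 2, 4, 6, 8, 11, 6, 4, 6, 2, 4, 6, 8, 6, 5, 7, 5, 12, 11, 9, 7, 10]] = U.lsub W103 :=
  lsub_eq_of_all₂ (show List.Forall₂ _ [[10, 2, 4, 6, 8, 10, 10, 0, 2, 4, 6, 8, 4, 6, 2, 0, 5, 3, 10, 9, 7, 5, 3, 7, 5, 10, 12], [12, 0, 2, 4, 6, 8, 11, 6, 4, 6, 2, 4, 6, 8, 6, 5, 7, 5, 12, 11, 9, 7, 10]] [[35], [37]] from List.Forall₂.cons ((show ev (atm 7 fP) [10, 2, 4, 6, 8, 10, 10, 0, 2, 4, 6, 8, 4, 6, 2, 0, 5, 3, 10, 9, 7, 5, 3, 7, 5, 10, 12] = U.τ 35 from vpz35).trans (one_mul _).symm) (List.Forall₂.cons ((show ev (atm 7 fP) [12, 0, 2, 4, 6, 8, 11, 6, 4, 6, 2, 4, 6, 8, 6, 5, 7, 5, 12, 11, 9, 7, 10] = U.τ 37 from vpz37).trans (one_mul _).symm) (List.Forall₂.nil)))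
theorem reach106 : Reach (U.lsub W103) 2 M104 := (Reach.grow hU (Reach.base _ 2) gr105)
theorem orb109 : (orbS (U.lsub W103) 2).ncard = 54 := reach106.ncard hU cl107 sz108
theorem orb109e : orbS (U.lsub W103) 2 = {c | Nat.testBit M104 c = true} := reach106.orb hU cl107
theorem lbS22 : 54 ∣ Nat.card (U.lsub W103) := dvd_card_orb orb109
theorem cardS22 : 54 ∣ Nat.card (wsub 7 p [[10, 2, 4, 6, 8, 10, 10, 0, 2, 4, 6, 8, 4, 6, 2, 0, 5, 3, 10, 9, 7, 5, 3, 7, 5, 10, 12], [12, 0, 2, 4, 6, 8, 11, 6, 4, 6, 2, 4, 6, 8, 6, 5, 7, 5, 12, 11, 9, 7, 10]]) := by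
  rw [card_wsub_lift, eS22]; exact lbS22
theorem eS23 : wsub 7 fP [[8, 6, 4, 6, 8, 6, 4, 6, 2, 4, 6, 0, 2, 4, 6, 1], [2, 4, 6, 0, 2, 4, 6, 8, 6, 4, 6, 2, 4, 6, 2, 0, 3, 5, 7]] = U.lsub W110 :=
  lsub_eq_of_all₂ (show List.Forall₂ _ [[8, 6, 4, 6, 8, 6, 4, 6, 2, 4, 6, 0, 2, 4, 6, 1], [2, 4, 6, 0, 2, 4, 6, 8, 6, 4, 6, 2, 4, 6, 2, 0, 3, 5, 7]] [[39], [41]] from List.Forall₂.cons ((show ev (atm 7 fP) [8, 6, 4, 6, 8, 6, 4, 6, 2, 4, 6, 0, 2, 4, 6, 1] = U.τ 39 from vpz39).trans (one_mul _).symm) (List.Forall₂.cons ((show ev (atm 7 fP) [2, 4, 6, 0, 2, 4, 6, 8, 6, 4, 6, 2, 4, 6, 2, 0, 3, 5, 7] = U.τ 41 from vpz41).trans (one_mul _).symm) (List.Forall₂.nil)))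
theorem reach113 : Reach (U.lsub W110) 2 M111 := (Reach.grow hU (Reach.base _ 2) gr112)
theorem orb116 : (orbS (U.lsub W110) 2).ncard = 6 := reach113.ncard hU cl114 sz115
theorem orb116e : orbS (U.lsub W110) 2 = {c | Nat.testBit M111 c = true} := reach113.orb hU cl114
theorem lbS23 : 6 ∣ Nat.card (U.lsub W110) := dvd_card_orb orb116
theorem cardS23 : 6 ∣ Nat.card (wsub 7 p [[8, 6, 4, 6, 8, 6, 4, 6, 2, 4, 6, 0, 2, 4, 6, 1], [2, 4, 6, 0, 2, 4, 6, 8, 6, 4, 6, 2, 4, 6, 2, 0, 3, 5, 7]]) := by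
  rw [card_wsub_lift, eS23]; exact lbS23
theorem eS25 : wsub 7 fP [[4, 6, 0, 2, 4, 6, 8, 6, 4, 6, 2, 4, 6, 8, 2, 0, 3, 5], [13, 8, 2, 4, 6, 0, 2, 4, 6, 4]] = U.lsub W117 :=
  lsub_eq_of_all₂ (show List.Forall₂ _ [[4, 6, 0, 2, 4, 6, 8, 6, 4, 6, 2, 4, 6, 8, 2, 0, 3, 5], [13, 8, 2, 4, 6, 0, 2, 4, 6, 4]] [[43], [45]] from List.Forall₂.cons ((show ev (atm 7 fP) [4, 6, 0, 2, 4, 6, 8, 6, 4, 6, 2, 4, 6, 8, 2, 0, 3, 5] = U.τ 43 from vpz43).trans (one_mul _).symm) (List.Forall₂.cons ((show ev (atm 7 fP) [13, 8, 2, 4, 6, 0, 2, 4, 6, 4] = U.τ 45 from vpz45).trans (one_mul _).symm) (List.Forall₂.nil)))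
theorem reach120 : Reach (U.lsub W117) 15 M118 := (Reach.grow hU (Reach.base _ 15) gr119)
theorem orb123 : (orbS (U.lsub W117) 15).ncard = 126 := reach120.ncard hU cl121 sz122
theorem orb123e : orbS (U.lsub W117) 15 = {c | Nat.testBit M118 c = true} := reach120.orb hU cl121
theorem lbS25 : 126 ∣ Nat.card (U.lsub W117) := dvd_card_orb orb123
theorem cardS25 : 126 ∣ Nat.card (wsub 7 p [[4, 6, 0, 2, 4, 6, 8, 6, 4, 6, 2, 4, 6, 8, 2, 0, 3, 5], [13, 8, 2, 4, 6, 0, 2, 4, 6, 4]]) := by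
  rw [card_wsub_lift, eS25]; exact lbS25
theorem eS27 : wsub 7 fP [[10, 6, 8, 11, 12, 6, 4, 6, 8, 10, 6, 0, 2, 4, 2, 0, 3, 7, 9, 10, 9], [11, 8, 10, 13, 6, 8, 11, 4, 6, 2, 4, 6, 8, 6, 2, 0, 3, 5, 10, 9, 7, 5, 11]] = U.lsub W124 :=
  lsub_eq_of_all₂ (show List.Forall₂ _ [[10, 6, 8, 11, 12, 6, 4, 6, 8, 10, 6, 0, 2, 4, 2, 0, 3, 7, 9, 10, 9], [11, 8, 10, 13, 6, 8, 11, 4, 6, 2, 4, 6, 8, 6, 2, 0, 3, 5, 10, 9, 7, 5, 11]] [[47], [49]] from List.Forall₂.cons ((show ev (atm 7 fP) [10, 6, 8, 11, 12, 6, 4, 6, 8, 10, 6, 0, 2, 4, 2, 0, 3, 7, 9, 10, 9] = U.τ 47 from vpz47).trans (one_mul _).symm) (List.Forall₂.cons ((show ev (atm 7 fP) [11, 8, 10, 13, 6, 8, 11, 4, 6, 2, 4, 6, 8, 6, 2, 0, 3, 5, 10, 9, 7, 5, 11] = U.τ 49 from vpz49).trans (one_mul _).symm) (List.Forall₂.nil)))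
theorem reach127 : Reach (U.lsub W124) 1 M125 := (Reach.grow hU (Reach.base _ 1) gr126)
theorem orb130 : (orbS (U.lsub W124) 1).ncard = 72 := reach127.ncard hU cl128 sz129
theorem orb130e : orbS (U.lsub W124) 1 = {c | Nat.testBit M125 c = true} := reach127.orb hU cl128
theorem lbS27 : 72 ∣ Nat.card (U.lsub W124) := dvd_card_orb orb130
theorem cardS27 : 72 ∣ Nat.card (wsub 7 p [[10, 6, 8, 11, 12, 6, 4, 6, 8, 10, 6, 0, 2, 4, 2, 0, 3, 7, 9, 10, 9], [11, 8, 10, 13, 6, 8, 11, 4, 6, 2, 4, 6, 8, 6, 2, 0, 3, 5, 10, 9, 7, 5, 11]]) := by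
  rw [card_wsub_lift, eS27]; exact lbS27
theorem eS28 : wsub 7 fP [[10, 6, 8, 10, 2, 4, 6, 8, 11, 4, 6, 8, 4, 6, 4, 3, 1, 5, 7, 9, 7, 5, 12, 10, 9], [13, 11, 6, 8, 2, 4, 6, 4, 6, 8, 10, 10, 2, 4, 6, 5, 9, 7, 5, 3, 10, 9, 7, 5, 3, 10]] = U.lsub W131 :=
  lsub_eq_of_all₂ (show List.Forall₂ _ [[10, 6, 8, 10, 2, 4, 6, 8, 11, 4, 6, 8, 4, 6, 4, 3, 1, 5, 7, 9, 7, 5, 12, 10, 9], [13, 11, 6, 8, 2, 4, 6, 4, 6, 8, 10, 10, 2, 4, 6, 5, 9, 7, 5, 3, 10, 9, 7, 5, 3, 10]] [[51], [53]] from List.Forall₂.cons ((show ev (atm 7 fP) [10, 6, 8, 10, 2, 4, 6, 8, 11, 4, 6, 8, 4, 6, 4, 3, 1, 5, 7, 9, 7, 5, 12, 10, 9] = U.τ 51 from vpz51).trans (one_mul _).symm) (List.Forall₂.cons ((show ev (atm 7 fP) [13, 11, 6, 8, 2, 4, 6, 4, 6, 8, 10, 10, 2, 4, 6, 5, 9, 7, 5, 3, 10, 9, 7, 5, 3, 10] = U.τ 53 from vpz53).trans (one_mul _).symm) (List.Forall₂.nil)))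
theorem reach136 : Reach (U.lsub W131) 0 M134 := (Reach.grow hU (Reach.base _ 0) gr135)
theorem orb139 : (orbS (U.lsub W131) 0).ncard = 588 := reach136.ncard hU cl137 sz138
theorem orb139e : orbS (U.lsub W131) 0 = {c | Nat.testBit M134 c = true} := reach136.orb hU cl137
theorem reach144 : Reach (U.lsub W140) 1 M142 := (Reach.grow hU (Reach.base _ 1) gr143)
theorem orb147 : (orbS (U.lsub W140) 1).ncard = 6 := reach144.ncard hU cl145 sz146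
theorem orb147e : orbS (U.lsub W140) 1 = {c | Nat.testBit M142 c = true} := reach144.orb hU cl145
theorem lbS28148 : 6 ∣ Nat.card (U.lsub W140) := dvd_card_orb orb147
theorem lbS28 : 3528 ∣ Nat.card (U.lsub W131) :=
  dvd_card_step (s := 588) (M := 6) (B := U.lsub W140) (Tab.lsub_le_all (AllP.cons (mem_of_rel (hU.one rel132) (U.mem_letters (by decide))) (AllP.cons (mem_of_rel (hU.one rel133) (U.mem_letters (by decide))) (AllP.nil)))) (hU.fixes fx141) orb139 lbS28148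
theorem cardS28 : 3528 ∣ Nat.card (wsub 7 p [[10, 6, 8, 10, 2, 4, 6, 8, 11, 4, 6, 8, 4, 6, 4, 3, 1, 5, 7, 9, 7, 5, 12, 10, 9], [13, 11, 6, 8, 2, 4, 6, 4, 6, 8, 10, 10, 2, 4, 6, 5, 9, 7, 5, 3, 10, 9, 7, 5, 3, 10]]) := by
  rw [card_wsub_lift, eS28]; exact lbS28
theorem eS29 : wsub 7 fP [[10, 6, 8, 11, 4, 6, 4, 6, 8, 11, 8, 6, 2, 4, 6, 3, 5, 3, 9, 7, 5, 3, 10, 10, 10, 9, 7], [10, 8, 11, 4, 6, 8, 10, 2, 4, 6, 8, 0, 2, 4, 6, 3, 5, 3, 7, 9, 7, 13, 11, 9]] = U.lsub W149 :=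
  lsub_eq_of_all₂ (show List.Forall₂ _ [[10, 6, 8, 11, 4, 6, 4, 6, 8, 11, 8, 6, 2, 4, 6, 3, 5, 3, 9, 7, 5, 3, 10, 10, 10, 9, 7], [10, 8, 11, 4, 6, 8, 10, 2, 4, 6, 8, 0, 2, 4, 6, 3, 5, 3, 7, 9, 7, 13, 11, 9]] [[55], [57]] from List.Forall₂.cons ((show ev (atm 7 fP) [10, 6, 8, 11, 4, 6, 4, 6, 8, 11, 8, 6, 2, 4, 6, 3, 5, 3, 9, 7, 5, 3, 10, 10, 10, 9, 7] = U.τ 55 from vpz55).trans (one_mul _).symm) (List.Forall₂.cons ((show ev (atm 7 fP) [10, 8, 11, 4, 6, 8, 10, 2, 4, 6, 8, 0, 2, 4, 6, 3, 5, 3, 7, 9, 7, 13, 11, 9] = U.τ 57 from vpz57).trans (one_mul _).symm) (List.Forall₂.nil)))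
theorem reach152 : Reach (U.lsub W149) 1 M150 := (Reach.grow hU (Reach.base _ 1) gr151)
theorem orb155 : (orbS (U.lsub W149) 1).ncard = 78 := reach152.ncard hU cl153 sz154
theorem orb155e : orbS (U.lsub W149) 1 = {c | Nat.testBit M150 c = true} := reach152.orb hU cl153
theorem lbS29 : 78 ∣ Nat.card (U.lsub W149) := dvd_card_orb orb155
theorem cardS29 : 78 ∣ Nat.card (wsub 7 p [[10, 6, 8, 11, 4, 6, 4, 6, 8, 11, 8, 6, 2, 4, 6, 3, 5, 3, 9, 7, 5, 3, 10, 10, 10, 9, 7], [10, 8, 11, 4, 6, 8, 10, 2, 4, 6, 8, 0, 2, 4, 6, 3, 5, 3, 7, 9, 7, 13, 11, 9]]) := by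
  rw [card_wsub_lift, eS29]; exact lbS29

end Cfsg.Agent.Spor.ThD.VB
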